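import Groth.Agent.Lib.Wiebe.AcycBaseChange
import Groth.Agent.Lib.Synt92.KoszulH1
import Groth.Agent.Lib.ArtinFun.SqZeroTensor
import Groth.Agent.Lib.Koszul.Basic
import Mathlib.Algebra.Module.Torsion.Basic

/-!
Koszul acyclicity with flat quotient lifts along square-zero ideals.
-/

set_option autoImplicit false

universe u

namespace Groth.Agent.Lib.NilKoszul

open CategoryTheory Groth.Agent.Lib.TorObstruction.Cube Groth.Agent.Lib.Wiebe.Exterior Groth.Agent.Lib.Wiebe.Link
open Groth.Agent.Lib.Wiebe.Bridge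
open scoped TensorProduct

/-- An acyclic family is Koszul regular. -/
theorem isKoszulRegularSeq_of_acyc {A : Type u} [CommRing A] {n : ℕ} (f : Fin n → A) (hf : Acyc f) :
    LCI.IsKoszulRegularSeq A (List.ofFn f) := by
  obtain ⟨θ, hd, hs, hk⟩ := exists_comparison n f
  intro i hi
  rcases lt_or_gt_of_ne hi with hneg | hpos
  · obtain ⟨d, rfl⟩ : ∃ d : ℕ, i = -((d : ℤ) + 1) := ⟨(-i - 1).toNat, by omega⟩
    let K := Koszul.koszul A (List.ofFn f)
    let i : ℤ := -((d : ℤ) + 1)
    refine (K.exactAt_iff_isZero_homology i).1 ?_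
    rw [K.exactAt_iff' (i - 1) i (i + 1) (Koszul.Cone.prev_up i) (Koszul.Cone.next_up i),
      ShortComplex.moduleCat_exact_iff]
    intro y hy
    obtain ⟨z, rfl⟩ := hs i y
    have h0 : θ i (P (d + 1) z) = θ i z := by
      rw [← sub_eq_zero, ← map_sub, hk]
      intro b hb
      rw [Pi.sub_apply, P_apply, if_pos (by omega), sub_self]
    have hz : opI f (P (d + 1) z) = 0 := by
      rw [← P_opI]
      funext b
      rw [P_apply]
      split_ifs with hb
      · exact (hk (i + 1) (opI f z)).1 (by rw [← hd]; exact hy) b (by omega)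
      · rfl
    obtain ⟨w, hw⟩ := hf _ hz (by rw [P_apply, if_neg (by rw [wt_O]; omega)])
    refine ⟨θ (i - 1) w, ?_⟩
    have h2 := hd (i - 1) w
    rw [sub_add_cancel] at h2
    exact h2.trans ((congrArg (θ i) hw).trans h0)
  · exact (Groth.Agent.Lib.Koszul.Basic.isZero_of_pos (ModuleCat.of A A) (List.ofFn f) i hpos).of_iso
      (Groth.Agent.Lib.Koszul.Basic.koszulHomologyIso (List.ofFn f) i)

variable {A B : Type u} [CommRing A] [CommRing B] [Algebra A B] [Module.Flat A B] (J : Ideal A) (hJ : J * J = ⊥)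


include hJ in
theorem smul_map_eq_zero (t : J) {b : B} (hb : b ∈ Ideal.map (algebraMap A B) J) : (t : A) • b = 0 := by
  have h : (t : A) • b ∈ Ideal.map (algebraMap A B) J * Ideal.map (algebraMap A B) J := by
    rw [Algebra.smul_def]
    exact Ideal.mul_mem_mul (Ideal.mem_map_of_mem _ t.2) hb
  rw [← Ideal.map_mul, hJ, Ideal.map_bot, Ideal.mem_bot] at h
  exact h

include hJ in
theorem rTensor_injective_of_flat (W : Type u) [AddCommGroup W] [Module A W] [Module.Flat A W] :
    Function.Injective (TensorProduct.lift ((LinearMap.lsmul A W).comp J.subtype)) := by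
  have : TensorProduct.lift ((LinearMap.lsmul A W).comp J.subtype) =
      (TensorProduct.lid A W).toLinearMap ∘ₗ J.subtype.rTensor W := by
    ext t w; simp
  rw [this]
  exact (TensorProduct.lid A W).injective.comp
    (Module.Flat.rTensor_preserves_injective_linearMap _ (Submodule.injective_subtype J))

variable {n : ℕ} (f : Fin n → B) (hf : Acyc fun i => (Ideal.Quotient.mk (Ideal.map (algebraMap A B) J)) (f i))
  (hflat : Module.Flat (A ⧸ J) ((B ⧸ Ideal.map (algebraMap A B) J) ⧸ Ideal.span (Set.range fun i => (Ideal.Quotient.mk (Ideal.map (algebraMap A B) J)) (f i))))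

theorem opI_lift {w : V B n} : opI (fun i => (Ideal.Quotient.mk (Ideal.map (algebraMap A B) J)) (f i)) (fun b => (Ideal.Quotient.mk (Ideal.map (algebraMap A B) J)) (w b)) = fun b => (Ideal.Quotient.mk (Ideal.map (algebraMap A B) J)) (opI f w b) :=
  Wiebe.Bridge.opI_map (Ideal.Quotient.mk (Ideal.map (algebraMap A B) J)) f w

theorem P_comp {R S : Type u} [CommRing R] [CommRing S] (φ : R →+* S) (d : ℕ) (w : V R n) :
    P d (φ ∘ w) = φ ∘ P d w := funext fun b => by
  rw [Function.comp_apply, P_apply, P_apply]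
  split_ifs <;> simp

include hf in
/-- Removing a boundary leaves a cycle with values in the ideal. -/
theorem exists_correction {z : V B n} (hz : ∀ b, (Ideal.Quotient.mk (Ideal.map (algebraMap A B) J)) (opI f z b) = 0) (hzO : (Ideal.Quotient.mk (Ideal.map (algebraMap A B) J)) (z (O n)) = 0) :
    ∃ w : V B n, opI f w (O n) = 0 ∧ ∀ b, (Ideal.Quotient.mk (Ideal.map (algebraMap A B) J)) ((z - opI f w) b) = 0 := by
  have h1 : opI (fun i => (Ideal.Quotient.mk (Ideal.map (algebraMap A B) J)) (f i)) (fun b => (Ideal.Quotient.mk (Ideal.map (algebraMap A B) J)) (z b)) = 0 := by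
    rw [opI_lift]; funext b; exact hz b
  obtain ⟨w', hw'⟩ := hf _ h1 hzO
  choose w hw using fun b => Ideal.Quotient.mk_surjective (w' b)
  obtain rfl : w' = fun b => (Ideal.Quotient.mk (Ideal.map (algebraMap A B) J)) (w b) := funext fun b => (hw b).symm
  refine ⟨w - P 1 w, ?_, fun b => ?_⟩
  · have h := congr_fun (P_opI f 0 (w - P 1 w)) (O n)
    rw [P_apply, if_pos (wt_O n)] at h
    rw [h, map_sub, Wiebe.AcycBaseChange.P_idem, sub_self, map_zero]
    rfl
  · have hP1 : opI (fun i => (Ideal.Quotient.mk (Ideal.map (algebraMap A B) J)) (f i)) (P 1 fun b => (Ideal.Quotient.mk (Ideal.map (algebraMap A B) J)) (w b)) = 0 := by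
      rw [← P_opI _ 0, hw']
      funext b
      rw [P_apply]
      split_ifs with hb
      · rw [eq_O_of_wt b hb]; exact hzO
      · rfl
    have h2 : (fun b => (Ideal.Quotient.mk (Ideal.map (algebraMap A B) J)) (opI f (w - P 1 w) b)) = fun b => (Ideal.Quotient.mk (Ideal.map (algebraMap A B) J)) (z b) := by
      rw [← opI_lift, ← hw']
      have : (fun b => (Ideal.Quotient.mk (Ideal.map (algebraMap A B) J)) ((w - P 1 w) b)) = (fun b => (Ideal.Quotient.mk (Ideal.map (algebraMap A B) J)) (w b)) - P 1 fun b => (Ideal.Quotient.mk (Ideal.map (algebraMap A B) J)) (w b) := by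
        funext b
        rw [Pi.sub_apply, Pi.sub_apply, map_sub]
        exact congrArg _ (congr_fun (P_comp (Ideal.Quotient.mk (Ideal.map (algebraMap A B) J)) 1 w) b).symm
      rw [this, map_sub, hP1, sub_zero]
    rw [Pi.sub_apply, map_sub, congr_fun h2 b, sub_self]

include hJ hf hflat in
theorem acyc : Acyc f := by
  classical
  intro z hz hzO
  obtain ⟨w₀, hw₀O, hw₀⟩ := exists_correction J f hf (z := z) (fun b => by rw [hz]; simp) (by rw [hzO, map_zero])
  suffices h : ∃ w, opI f w = z - opI f w₀ by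
    obtain ⟨w, hw⟩ := h
    exact ⟨w + w₀, by rw [map_add, hw, sub_add_cancel]⟩
  have hzc : opI f (z - opI f w₀) = 0 := by rw [map_sub, hz, opI_opI, sub_zero]
  have hzcO : (z - opI f w₀) (O n) = 0 := by rw [Pi.sub_apply, hzO, hw₀O, sub_zero]
  generalize z - opI f w₀ = z₁ at hw₀ hzc hzcO
  -- the ideal as a module over the quotient
  have hM : Module.IsTorsionBySet A J (J : Set A) := fun t a => Subtype.ext <| by
    have h : (a : A) * t ∈ J * J := Ideal.mul_mem_mul a.2 t.2
    rw [hJ, Ideal.mem_bot] at h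
    exact h
  letI : Module (A ⧸ J) J := Module.IsTorsionBySet.module (I := J) hM
  haveI : IsScalarTower A (A ⧸ J) J := Module.IsTorsionBySet.isScalarTower hM
  have : Module.Flat (A ⧸ J) (B ⧸ Ideal.map (algebraMap A B) J) :=
    Module.Flat.of_linearEquiv (R := A ⧸ J) (M := (A ⧸ J) ⊗[A] B)
      (Algebra.TensorProduct.quotIdealMapEquivQuotTensor B J).toLinearEquiv
  -- multiplication into the ideal
  let mJ : J → (B ⧸ Ideal.map (algebraMap A B) J) →ₗ[A] B := fun t => ((Ideal.map (algebraMap A B) J).restrictScalars A).liftQ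
    ((t : A) • LinearMap.id) (fun b hb => LinearMap.mem_ker.2 (smul_map_eq_zero J hJ t hb))
  let Ξ : J ⊗[A ⧸ J] V (B ⧸ Ideal.map (algebraMap A B) J) n →+ V B n := TensorProduct.liftAddHom
    (AddMonoidHom.mk' (fun t => AddMonoidHom.mk' (fun v b => mJ t (v b)) fun v v' => funext fun b => map_add _ _ _)
      fun t t' => AddMonoidHom.ext fun v => funext fun b => by
        obtain ⟨x, hx⟩ := Ideal.Quotient.mk_surjective (v b)
        show mJ (t + t') (v b) = mJ t (v b) + mJ t' (v b)
        rw [← hx]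
        exact add_smul (t : A) (t' : A) x)
    (fun r t v => funext fun b => by
      obtain ⟨a, rfl⟩ := Ideal.Quotient.mk_surjective r
      obtain ⟨x, hx⟩ := Ideal.Quotient.mk_surjective (v b)
      show mJ (Ideal.Quotient.mk J a • t) (v b) = mJ t ((Ideal.Quotient.mk J a • v) b)
      rw [Pi.smul_apply, ← hx, Module.IsTorsionBySet.mk_smul hM]
      show ((a : A) * t) • x = (t : A) • (a • x)
      rw [smul_smul, mul_comm])
  have hΞ : ∀ (t : J) (x : V B n), Ξ (t ⊗ₜ fun b => (Ideal.Quotient.mk (Ideal.map (algebraMap A B) J)) (x b)) = (t : A) • x := fun t x => rfl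
  have hΞinj : Function.Injective Ξ := by
    let Θ : J ⊗[A] V B n →ₗ[A] J ⊗[A ⧸ J] V (B ⧸ Ideal.map (algebraMap A B) J) n := TensorProduct.lift
      { toFun := fun t =>
          { toFun := fun x => t ⊗ₜ fun b => (Ideal.Quotient.mk (Ideal.map (algebraMap A B) J)) (x b)
            map_add' := fun x y => by rw [← TensorProduct.tmul_add]; congr 1
            map_smul' := fun a x => by rw [RingHom.id_apply, ← TensorProduct.tmul_smul]; congr 1 }
        map_add' := fun t t' => LinearMap.ext fun x => TensorProduct.add_tmul _ _ _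
        map_smul' := fun a t => LinearMap.ext fun x => by rw [RingHom.id_apply]; exact (TensorProduct.smul_tmul' a t _).symm }
    have hsurj : Function.Surjective Θ := by
      intro y
      induction y using TensorProduct.induction_on with
      | zero => exact ⟨0, map_zero _⟩
      | tmul t v =>
        choose x hx using fun b => Ideal.Quotient.mk_surjective (v b)
        exact ⟨t ⊗ₜ x, by show t ⊗ₜ[A ⧸ J] (fun b => (Ideal.Quotient.mk (Ideal.map (algebraMap A B) J)) (x b)) = _; rw [show (fun b => (Ideal.Quotient.mk (Ideal.map (algebraMap A B) J)) (x b)) = v from funext hx]⟩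
      | add p q hp hq =>
        obtain ⟨p', rfl⟩ := hp
        obtain ⟨q', rfl⟩ := hq
        exact ⟨p' + q', map_add _ _ _⟩
    have hcomp : ∀ x, Ξ (Θ x) = TensorProduct.lift ((LinearMap.lsmul A (V B n)).comp J.subtype) x := by
      intro x
      induction x using TensorProduct.induction_on with
      | zero => simp
      | tmul t x => rfl
      | add p q hp hq => simp only [map_add, hp, hq]
    have hfl : Module.Flat A (V B n) := Wiebe.AcycBaseChange.flat_V A B n
    intro p q h
    obtain ⟨p, rfl⟩ := hsurj p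
    obtain ⟨q, rfl⟩ := hsurj q
    rw [hcomp, hcomp] at h
    rw [rTensor_injective_of_flat J hJ (V B n) h]
  have hΞsurj : ∀ x : V B n, (∀ b, (Ideal.Quotient.mk (Ideal.map (algebraMap A B) J)) (x b) = 0) → ∃ y, Ξ y = x := by
    intro x hx
    have h1 : ∀ b, ∀ m ∈ Ideal.map (algebraMap A B) J, ∃ y, Ξ y = Pi.single b m := by
      intro b m hm
      rw [← Submodule.restrictScalars_mem A, ← Ideal.smul_top_eq_map] at hm
      refine Submodule.smul_induction_on hm (fun a ha c _ => ?_) fun p q hp hq => ?_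
      · refine ⟨(⟨a, ha⟩ : J) ⊗ₜ fun b' => (Ideal.Quotient.mk (Ideal.map (algebraMap A B) J)) ((Pi.single b c : V B n) b'), ?_⟩
        rw [hΞ, ← Pi.single_smul]
      · obtain ⟨p', hp'⟩ := hp
        obtain ⟨q', hq'⟩ := hq
        exact ⟨p' + q', by rw [map_add, hp', hq', ← Pi.single_add]⟩
    choose y hy using fun b => h1 b (x b) (Ideal.Quotient.eq_zero_iff_mem.1 (hx b))
    exact ⟨∑ b, y b, by rw [map_sum]; simp only [hy]; exact Finset.univ_sum_single x⟩
  have hΞD : ∀ (d : ℕ) (y : J ⊗[A ⧸ J] V (B ⧸ Ideal.map (algebraMap A B) J) n),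
      Ξ ((Wiebe.AcycBaseChange.D (A := A ⧸ J) (fun i => (Ideal.Quotient.mk (Ideal.map (algebraMap A B) J)) (f i)) d).lTensor J y) = opI f (P (d + 1) (Ξ y)) := by
    intro d y
    induction y using TensorProduct.induction_on with
    | zero => simp
    | tmul t v =>
      choose x hx using fun b => Ideal.Quotient.mk_surjective (v b)
      obtain rfl : (fun b => (Ideal.Quotient.mk (Ideal.map (algebraMap A B) J)) (x b)) = v := funext hx
      have h1 : Wiebe.AcycBaseChange.D (A := A ⧸ J) (fun i => (Ideal.Quotient.mk (Ideal.map (algebraMap A B) J)) (f i)) d (fun b => (Ideal.Quotient.mk (Ideal.map (algebraMap A B) J)) (x b)) =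
          fun b => (Ideal.Quotient.mk (Ideal.map (algebraMap A B) J)) (opI f (P (d + 1) x) b) := by
        rw [Wiebe.AcycBaseChange.D_apply, show (fun b => (Ideal.Quotient.mk (Ideal.map (algebraMap A B) J)) (x b)) = (Ideal.Quotient.mk (Ideal.map (algebraMap A B) J)) ∘ x from rfl, P_comp]
        exact opI_lift J f
      rw [LinearMap.lTensor_tmul, h1, hΞ, hΞ, LinearMap.map_smul_of_tower, LinearMap.map_smul_of_tower]
    | add p q hp hq => simp only [map_add, hp, hq]
  have hΞP : ∀ (d : ℕ) (y : J ⊗[A ⧸ J] V (B ⧸ Ideal.map (algebraMap A B) J) n),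
      Ξ (((P d : V (B ⧸ Ideal.map (algebraMap A B) J) n →ₗ[(B ⧸ Ideal.map (algebraMap A B) J)] V (B ⧸ Ideal.map (algebraMap A B) J) n).restrictScalars (A ⧸ J)).lTensor J y) = P d (Ξ y) := by
    intro d y
    induction y using TensorProduct.induction_on with
    | zero => simp
    | tmul t v =>
      choose x hx using fun b => Ideal.Quotient.mk_surjective (v b)
      obtain rfl : (fun b => (Ideal.Quotient.mk (Ideal.map (algebraMap A B) J)) (x b)) = v := funext hx
      rw [LinearMap.lTensor_tmul, LinearMap.restrictScalars_apply, show (fun b => (Ideal.Quotient.mk (Ideal.map (algebraMap A B) J)) (x b)) = (Ideal.Quotient.mk (Ideal.map (algebraMap A B) J)) ∘ x from rfl, P_comp,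
        show ((Ideal.Quotient.mk (Ideal.map (algebraMap A B) J)) ∘ P d x) = fun b => (Ideal.Quotient.mk (Ideal.map (algebraMap A B) J)) (P d x b) from rfl, hΞ, show ((Ideal.Quotient.mk (Ideal.map (algebraMap A B) J)) ∘ x) = fun b => (Ideal.Quotient.mk (Ideal.map (algebraMap A B) J)) (x b) from rfl, hΞ,
        LinearMap.map_smul_of_tower]
    | add p q hp hq => simp only [map_add, hp, hq]
  obtain ⟨y, rfl⟩ := hΞsurj z₁ hw₀
  suffices h : Ξ y ∈ LinearMap.range (opI f) from h
  rw [← low_eq_self le_rfl (Ξ y), low, LinearMap.sum_apply]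
  refine Submodule.sum_mem _ fun e _ => ?_
  cases e with
  | zero => rw [P_zero_eq, hzcO, zero_smul]; exact zero_mem _
  | succ d =>
    haveI := hflat
    have := Wiebe.AcycBaseChange.flat_V (A ⧸ J) (B ⧸ Ideal.map (algebraMap A B) J) n
    have := Wiebe.AcycBaseChange.flat_coker (A := A ⧸ J) (fun i => (Ideal.Quotient.mk (Ideal.map (algebraMap A B) J)) (f i)) hf d
    have hx : (Wiebe.AcycBaseChange.D (A := A ⧸ J) (fun i => (Ideal.Quotient.mk (Ideal.map (algebraMap A B) J)) (f i)) d).lTensor J y = 0 := hΞinj (by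
      rw [hΞD, map_zero, ← P_opI, hzc, map_zero])
    obtain ⟨k, hk⟩ := ((FlatCx.Ker.ker_lTensor_of_flat_coker
      (Wiebe.AcycBaseChange.D (A := A ⧸ J) (fun i => (Ideal.Quotient.mk (Ideal.map (algebraMap A B) J)) (f i)) d) J).2 _).1 hx
    let D' := Wiebe.AcycBaseChange.D (A := A ⧸ J) (fun i => (Ideal.Quotient.mk (Ideal.map (algebraMap A B) J)) (f i)) (d + 1)
    let c : LinearMap.ker (Wiebe.AcycBaseChange.D (A := A ⧸ J) (fun i => (Ideal.Quotient.mk (Ideal.map (algebraMap A B) J)) (f i)) d) →ₗ[A ⧸ J] LinearMap.range D' :=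
      LinearMap.codRestrict _ (((P (d + 1) : V (B ⧸ Ideal.map (algebraMap A B) J) n →ₗ[(B ⧸ Ideal.map (algebraMap A B) J)] V (B ⧸ Ideal.map (algebraMap A B) J) n).restrictScalars (A ⧸ J)).comp
        (LinearMap.ker _).subtype) fun v => Wiebe.AcycBaseChange.mem_range_of_mem_ker _ hf d v.2
    obtain ⟨w, hw⟩ := LinearMap.lTensor_surjective J D'.surjective_rangeRestrict (c.lTensor J k)
    refine ⟨P (d + 1 + 1) (Ξ w), ?_⟩
    rw [← hΞD]
    show Ξ (D'.lTensor J w) = P (d + 1) (Ξ y)
    rw [show D' = (LinearMap.range D').subtype ∘ₗ D'.rangeRestrict from rfl, LinearMap.lTensor_comp,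
      LinearMap.comp_apply, hw, ← LinearMap.comp_apply, ← LinearMap.lTensor_comp,
      show (LinearMap.range D').subtype ∘ₗ c = ((P (d + 1) : V (B ⧸ Ideal.map (algebraMap A B) J) n →ₗ[(B ⧸ Ideal.map (algebraMap A B) J)] V (B ⧸ Ideal.map (algebraMap A B) J) n).restrictScalars (A ⧸ J)) ∘ₗ
        (LinearMap.ker _).subtype from rfl, LinearMap.lTensor_comp, LinearMap.comp_apply, hk, hΞP]

include hJ hf hflat in
theorem flat_quotient : Module.Flat A (B ⧸ Ideal.span (Set.range f)) := by
  classical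
  let I := Ideal.span (Set.range f)
  have : Module.Flat (A ⧸ J) ((A ⧸ J) ⊗[A] (B ⧸ I)) := by
    let e₁ : ((A ⧸ J) ⊗[A] (B ⧸ I)) ≃ₗ[A ⧸ J] (B ⧸ I) ⧸ Ideal.map (algebraMap A (B ⧸ I)) J :=
      (Algebra.TensorProduct.quotIdealMapEquivQuotTensor (B ⧸ I) J).symm.toLinearEquiv
    have hmap : Ideal.span (Set.range fun i => (Ideal.Quotient.mk (Ideal.map (algebraMap A B) J)) (f i)) = I.map (Ideal.Quotient.mk (Ideal.map (algebraMap A B) J)) := by
      rw [Ideal.map_span, ← Set.range_comp]; rfl
    let e₂ : ((B ⧸ I) ⧸ Ideal.map (algebraMap A (B ⧸ I)) J) ≃+* ((B ⧸ Ideal.map (algebraMap A B) J) ⧸ Ideal.span (Set.range fun i => (Ideal.Quotient.mk (Ideal.map (algebraMap A B) J)) (f i))) :=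
      (Ideal.quotEquivOfEq (by rw [Ideal.map_map]; rfl)).trans
        ((DoubleQuot.quotQuotEquivComm I (Ideal.map (algebraMap A B) J)).trans (Ideal.quotEquivOfEq hmap.symm))
    let e₃ : ((B ⧸ I) ⧸ Ideal.map (algebraMap A (B ⧸ I)) J) ≃ₗ[A ⧸ J] ((B ⧸ Ideal.map (algebraMap A B) J) ⧸ Ideal.span (Set.range fun i => (Ideal.Quotient.mk (Ideal.map (algebraMap A B) J)) (f i))) :=
      { e₂.toAddEquiv with
        map_smul' := fun r x => by
          obtain ⟨a, rfl⟩ := Ideal.Quotient.mk_surjective r
          obtain ⟨x, rfl⟩ := Ideal.Quotient.mk_surjective x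
          obtain ⟨x, rfl⟩ := Ideal.Quotient.mk_surjective x
          rfl }
    haveI := hflat
    exact Module.Flat.of_linearEquiv (e₁.trans e₃)
  refine ArtinFun.flat_of_nilpotent_of_injective J (n := 2) (by rw [sq, hJ]) ?_
  rw [LinearMap.lTensor_inj_iff_rTensor_inj, injective_iff_map_eq_zero]
  intro x hx
  let π : B →ₗ[A] B ⧸ I := (Ideal.Quotient.mkₐ A I).toLinearMap
  obtain ⟨y, rfl⟩ := LinearMap.lTensor_surjective (J : Type u) (g := π) Ideal.Quotient.mk_surjective x
  let μ := TensorProduct.lift ((LinearMap.lsmul A B).comp J.subtype)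
  have hμρ : ∀ y : J ⊗[A] B, (Ideal.Quotient.mk (Ideal.map (algebraMap A B) J)) (μ y) = 0 := by
    intro y
    induction y using TensorProduct.induction_on with
    | zero => simp
    | tmul t b =>
      show (Ideal.Quotient.mk (Ideal.map (algebraMap A B) J)) ((t : A) • b) = 0
      rw [Ideal.Quotient.eq_zero_iff_mem, Algebra.smul_def]
      exact Ideal.mul_mem_right _ _ (Ideal.mem_map_of_mem _ t.2)
    | add p q hp hq => rw [map_add, map_add, hp, hq, add_zero]
  have hμπ : ∀ y : J ⊗[A] B, π (μ y) = TensorProduct.lid A _ (J.subtype.rTensor (B ⧸ I) (π.lTensor J y)) := by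
    intro y
    induction y using TensorProduct.induction_on with
    | zero => simp
    | tmul t b => simp [μ, π]
    | add p q hp hq => simp only [map_add, hp, hq]
  have hμI : μ y ∈ I := Ideal.Quotient.eq_zero_iff_mem.1 (by
    show π (μ y) = 0
    rw [hμπ, hx, map_zero])
  obtain ⟨u, hu, huO⟩ := exists_preimage_O f hμI
  obtain ⟨w, -, hw⟩ := exists_correction J f hf (z := u) (fun b => by
    rw [hu]; show (Ideal.Quotient.mk (Ideal.map (algebraMap A B) J)) (μ y * delta B n b) = 0; rw [map_mul, hμρ, zero_mul]) (by rw [huO, map_zero])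
  let u' := u - opI f w
  have hm : μ y = ∑ j, f j * u' (Synt92.KoszulH1.ev j) := by
    rw [← Synt92.KoszulH1.opI_apply_O', map_sub, opI_opI, sub_zero, hu]
    simp [delta]
  have hpre : ∀ m : B, (Ideal.Quotient.mk (Ideal.map (algebraMap A B) J)) m = 0 → ∃ y, μ y = m := by
    intro m hm
    rw [Ideal.Quotient.eq_zero_iff_mem, ← Submodule.restrictScalars_mem A, ← Ideal.smul_top_eq_map] at hm
    refine Submodule.smul_induction_on hm (fun a ha c _ => ⟨(⟨a, ha⟩ : J) ⊗ₜ c, rfl⟩) fun p q ⟨p', hp⟩ ⟨q', hq⟩ =>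
      ⟨p' + q', by rw [map_add, hp, hq]⟩
  choose v hv using fun j => hpre (u' (Synt92.KoszulH1.ev j)) (hw _)
  have hmulμ : ∀ (c : B) (q : J ⊗[A] B), μ ((LinearMap.mulLeft A c).lTensor J q) = c * μ q := by
    intro c q
    induction q using TensorProduct.induction_on with
    | zero => simp
    | tmul t b => simp [μ]
    | add p q hp hq => simp only [map_add, mul_add, hp, hq]
  have hy : y = ∑ j, (LinearMap.mulLeft A (f j)).lTensor J (v j) := rTensor_injective_of_flat J hJ B (by
    show μ y = μ _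
    rw [map_sum, hm]
    simp only [hmulμ, hv])
  rw [hy, map_sum]
  refine Finset.sum_eq_zero fun j _ => ?_
  rw [← LinearMap.comp_apply, ← LinearMap.lTensor_comp,
    show π ∘ₗ LinearMap.mulLeft A (f j) = 0 from LinearMap.ext fun b =>
      Ideal.Quotient.eq_zero_iff_mem.2 (Ideal.mul_mem_right _ _ (Ideal.subset_span ⟨j, rfl⟩))]
  simp

end Groth.Agent.Lib.NilKoszul
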